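/-
Chevalley groups over isomorphic fields are isomorphic.
-/
import Cfsg.Agent.Lib.Chev.Sub.Fix

set_option autoImplicit false

namespace Cfsg.Agent.Lib.H14.ChevCongr

open Cfsg Cfsg.Lie

variable {D : ChevalleyDatum} {A B : Type*} [Field A] [Field B]

open Cfsg.Agent.Lib.Chev in
theorem map_group (ι : A ≃+* B) : (D.group A).map (glI D (ι : A →+* B)) = D.group B := by
  apply le_antisymm
  · rw [Subgroup.map_le_iff_le_comap]
    refine (Subgroup.closure_le _).2 ?_
    rintro g ⟨r, t, hg⟩
    apply Subgroup.subset_closure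
    refine ⟨r, ι t, ?_⟩
    rw [glI_val, hg]
    exact xMat_mapI (ι : A →+* B) r t
  · refine (Subgroup.closure_le _).2 ?_
    rintro g ⟨r, t, hg⟩
    refine ⟨glI D (ι.symm : B →+* A) g, Subgroup.subset_closure ⟨r, ι.symm t, ?_⟩, ?_⟩
    · rw [glI_val, hg]
      exact xMat_mapI (ι.symm : B →+* A) r t
    · apply Units.ext
      ext i j
      simp

open Cfsg.Agent.Lib.Chev in
/-- Chevalley groups over isomorphic fields are isomorphic. -/
theorem group_congr (ι : A ≃+* B) : Nonempty (D.group A ≃* D.group B) := by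
  have e := (D.group A).equivMapOfInjective (glI D (ι : A →+* B)) (glI_inj _)
  rw [map_group] at e
  exact ⟨e⟩

end Cfsg.Agent.Lib.H14.ChevCongr
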