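/-
The seven-dimensional module of G₂(3): the ideal of the Lie algebra spanned by the short root vectors
together with one coroot vector.  It carries an invariant bracket.
-/
import Cfsg.Prelude.Def_ChevG2
import Cfsg.Agent.S1055
import Cfsg.Agent.S1059
import Mathlib

set_option autoImplicit false
set_option maxRecDepth 100000
set_option maxHeartbeats 4000000
set_option linter.unusedVariables false

namespace Cfsg.Agent.Lib.H14.G23Rep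

open Cfsg.Lie Matrix Polynomial
open scoped Kronecker

abbrev F3 : Type := ZMod 3
abbrev Idx : Type := chevG2.Idx
abbrev M14 : Type := Matrix Idx Idx F3
abbrev M7 : Type := Matrix (Fin 7) (Fin 7) F3

def pos : Fin 7 → Idx
  | ⟨0, _⟩ => .inl ⟨0, by decide⟩
  | ⟨1, _⟩ => .inr ⟨2, by decide⟩
  | ⟨2, _⟩ => .inr ⟨3, by decide⟩
  | ⟨3, _⟩ => .inr ⟨4, by decide⟩
  | ⟨4, _⟩ => .inr ⟨7, by decide⟩
  | ⟨5, _⟩ => .inr ⟨8, by decide⟩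
  | ⟨6, _⟩ => .inr ⟨9, by decide⟩

def B : Matrix Idx (Fin 7) F3 := Matrix.of fun i j => if i = pos j then 1 else 0
def Bt : Matrix (Fin 7) Idx F3 := Matrix.of fun j i => if i = pos j then 1 else 0

theorem Bt_B : Bt * B = 1 := by decide +kernel

def mk7 (A : List (List F3)) : M7 := Matrix.of fun i j => (A.getD i.1 []).getD j.1 0

/-- structure constants of the invariant bracket -/
def tT : List (List F3) := [[0, 0, 0, 0, 0, 0, 0, 0, 0, 0, 0, 0, 0, 1, 0, 0, 0, 0, 0, 2, 0, 0, 0, 0, 0, 2, 0, 0, 0, 0, 0, 1, 0, 0, 0, 0, 0, 1, 0, 0, 0, 0, 0, 2, 0, 0, 0, 0, 0], [0, 2, 0, 0, 0, 0, 0, 1, 0, 0, 0, 0, 0, 0, 0, 0, 0, 1, 0, 0, 0, 0, 0, 2, 0, 0, 0, 0, 0, 0, 0, 0, 0, 0, 0, 0, 0, 0, 0, 0, 0, 0, 0, 0, 0, 0, 0, 0, 0], [0, 0, 1, 0, 0, 0, 0, 0, 0, 0, 0, 1, 0, 0, 2, 0, 0, 0, 0, 0, 0, 0, 0, 0, 0, 0, 0, 0, 0, 2, 0, 0, 0, 0, 0, 0,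 0, 0, 0, 0, 0, 0, 0, 0, 0, 0, 0, 0, 0], [0, 0, 0, 1, 0, 0, 0, 0, 0, 0, 0, 0, 2, 0, 0, 0, 0, 0, 0, 0, 0, 2, 0, 0, 0, 0, 0, 0, 0, 0, 0, 0, 0, 0, 0, 0, 1, 0, 0, 0, 0, 0, 0, 0, 0, 0, 0, 0, 0], [0, 0, 0, 0, 2, 0, 0, 0, 0, 0, 0, 0, 0, 0, 0, 0, 0, 0, 0, 0, 2, 0, 0, 0, 0, 0, 0, 0, 1, 0, 0, 0, 0, 0, 0, 0, 0, 0, 0, 0, 0, 0, 0, 0, 1, 0, 0, 0, 0], [0, 0, 0, 0, 0, 2, 0, 0, 0, 0, 0, 0, 0, 0, 0, 0, 0, 0, 0, 0, 0, 0, 0, 0, 0, 0, 0, 1, 0, 0, 0, 0, 0, 0, 0, 1, 0, 0, 0, 0, 0, 0, 0, 0, 0, 2, 0, 0, 0], [0, 0, 0, 0, 0, 0, 1, 0, 0, 0, 0, 0, 0, 0, 0, 0, 0, 0, 0, 0, 0, 0, 0, 0, 0, 0, 0, 0, 0, 0, 0, 0, 0, 1, 0, 0, 0, 0, 0, 2, 0, 0, 2, 0, 0, 0, 0, 0, 0]]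
def T : Matrix (Fin 7) (Fin 7 × Fin 7) F3 := Matrix.of fun k ij => (tT.getD k.1 []).getD (7 * ij.1.1 + ij.2.1) 0

def R (M : M14) : M7 := M.submatrix pos pos

theorem Bt_mul_B (M : M14) : Bt * M * B = R M := by
  ext i j
  simp [R, Matrix.mul_apply, Bt, B, Finset.sum_ite_eq', mul_ite, ite_mul]

def Rtab : List (List (List F3)) := [[[1, 0, 0, 0, 0, 0, 0], [0, 1, 0, 0, 0, 0, 0], [0, 0, 1, 0, 0, 0, 0], [0, 0, 0, 1, 0, 0, 0], [0, 0, 0, 0, 1, 0, 0], [0, 0, 0, 0, 0, 1, 0], [0, 0, 0, 0, 0, 0, 1]],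
  [[1, 0, 0, 0, 0, 0, 0], [0, 1, 0, 0, 0, 1, 0], [0, 0, 1, 0, 0, 0, 2], [0, 0, 0, 1, 0, 0, 0], [0, 0, 0, 0, 1, 0, 0], [0, 0, 0, 0, 0, 1, 0], [0, 0, 0, 0, 0, 0, 1]],
  [[1, 0, 0, 0, 0, 0, 0], [0, 1, 0, 0, 0, 2, 0], [0, 0, 1, 0, 0, 0, 1], [0, 0, 0, 1, 0, 0, 0], [0, 0, 0, 0, 1, 0, 0], [0, 0, 0, 0, 0, 1, 0], [0, 0, 0, 0, 0, 0, 1]],
  [[1, 0, 0, 0, 0, 0, 0], [0, 1, 0, 0, 0, 0, 0], [0, 0, 1, 0, 0, 0, 0], [0, 0, 0, 1, 0, 0, 0], [0, 0, 0, 0, 1, 0, 0], [0, 0, 0, 0, 0, 1, 0], [0, 0, 0, 0, 0, 0, 1]],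
  [[1, 0, 0, 0, 0, 0, 0], [0, 1, 0, 0, 1, 0, 0], [0, 0, 1, 0, 0, 0, 0], [0, 0, 0, 1, 0, 0, 2], [0, 0, 0, 0, 1, 0, 0], [0, 0, 0, 0, 0, 1, 0], [0, 0, 0, 0, 0, 0, 1]],
  [[1, 0, 0, 0, 0, 0, 0], [0, 1, 0, 0, 2, 0, 0], [0, 0, 1, 0, 0, 0, 0], [0, 0, 0, 1, 0, 0, 1], [0, 0, 0, 0, 1, 0, 0], [0, 0, 0, 0, 0, 1, 0], [0, 0, 0, 0, 0, 0, 1]],
  [[1, 0, 0, 0, 0, 0, 0], [0, 1, 0, 0, 0, 0, 0], [0, 0, 1, 0, 0, 0, 0], [0, 0, 0, 1, 0, 0, 0], [0, 0, 0, 0, 1, 0, 0], [0, 0, 0, 0, 0, 1, 0], [0, 0, 0, 0, 0, 0, 1]],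
  [[1, 0, 0, 0, 0, 0, 1], [1, 1, 0, 0, 0, 0, 2], [0, 0, 1, 0, 1, 0, 0], [0, 0, 0, 1, 0, 2, 0], [0, 0, 0, 0, 1, 0, 0], [0, 0, 0, 0, 0, 1, 0], [0, 0, 0, 0, 0, 0, 1]],
  [[1, 0, 0, 0, 0, 0, 2], [2, 1, 0, 0, 0, 0, 2], [0, 0, 1, 0, 2, 0, 0], [0, 0, 0, 1, 0, 1, 0], [0, 0, 0, 0, 1, 0, 0], [0, 0, 0, 0, 0, 1, 0], [0, 0, 0, 0, 0, 0, 1]],
  [[1, 0, 0, 0, 0, 0, 0], [0, 1, 0, 0, 0, 0, 0], [0, 0, 1, 0, 0, 0, 0], [0, 0, 0, 1, 0, 0, 0], [0, 0, 0, 0, 1, 0, 0], [0, 0, 0, 0, 0, 1, 0], [0, 0, 0, 0, 0, 0, 1]],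
  [[1, 0, 0, 0, 0, 2, 0], [0, 1, 0, 1, 0, 0, 0], [2, 0, 1, 0, 0, 2, 0], [0, 0, 0, 1, 0, 0, 0], [0, 0, 0, 0, 1, 0, 2], [0, 0, 0, 0, 0, 1, 0], [0, 0, 0, 0, 0, 0, 1]],
  [[1, 0, 0, 0, 0, 1, 0], [0, 1, 0, 2, 0, 0, 0], [1, 0, 1, 0, 0, 2, 0], [0, 0, 0, 1, 0, 0, 0], [0, 0, 0, 0, 1, 0, 1], [0, 0, 0, 0, 0, 1, 0], [0, 0, 0, 0, 0, 0, 1]],
  [[1, 0, 0, 0, 0, 0, 0], [0, 1, 0, 0, 0, 0, 0], [0, 0, 1, 0, 0, 0, 0], [0, 0, 0, 1, 0, 0, 0], [0, 0, 0, 0, 1, 0, 0], [0, 0, 0, 0, 0, 1, 0], [0, 0, 0, 0, 0, 0, 1]],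
  [[1, 0, 0, 0, 2, 0, 0], [0, 1, 2, 0, 0, 0, 0], [0, 0, 1, 0, 0, 0, 0], [2, 0, 0, 1, 2, 0, 0], [0, 0, 0, 0, 1, 0, 0], [0, 0, 0, 0, 0, 1, 1], [0, 0, 0, 0, 0, 0, 1]],
  [[1, 0, 0, 0, 1, 0, 0], [0, 1, 1, 0, 0, 0, 0], [0, 0, 1, 0, 0, 0, 0], [1, 0, 0, 1, 2, 0, 0], [0, 0, 0, 0, 1, 0, 0], [0, 0, 0, 0, 0, 1, 2], [0, 0, 0, 0, 0, 0, 1]],
  [[1, 0, 0, 0, 0, 0, 0], [0, 1, 0, 0, 0, 0, 0], [0, 0, 1, 0, 0, 0, 0], [0, 0, 0, 1, 0, 0, 0], [0, 0, 0, 0, 1, 0, 0], [0, 0, 0, 0, 0, 1, 0], [0, 0, 0, 0, 0, 0, 1]],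
  [[1, 0, 0, 0, 0, 0, 0], [0, 1, 0, 0, 0, 0, 0], [0, 0, 1, 2, 0, 0, 0], [0, 0, 0, 1, 0, 0, 0], [0, 0, 0, 0, 1, 1, 0], [0, 0, 0, 0, 0, 1, 0], [0, 0, 0, 0, 0, 0, 1]],
  [[1, 0, 0, 0, 0, 0, 0], [0, 1, 0, 0, 0, 0, 0], [0, 0, 1, 1, 0, 0, 0], [0, 0, 0, 1, 0, 0, 0], [0, 0, 0, 0, 1, 2, 0], [0, 0, 0, 0, 0, 1, 0], [0, 0, 0, 0, 0, 0, 1]],
  [[1, 0, 0, 0, 0, 0, 0], [0, 1, 0, 0, 0, 0, 0], [0, 0, 1, 0, 0, 0, 0], [0, 0, 0, 1, 0, 0, 0], [0, 0, 0, 0, 1, 0, 0], [0, 0, 0, 0, 0, 1, 0], [0, 0, 0, 0, 0, 0, 1]],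
  [[1, 0, 0, 0, 0, 0, 0], [0, 1, 0, 0, 0, 0, 0], [0, 0, 1, 0, 0, 0, 0], [0, 0, 2, 1, 0, 0, 0], [0, 0, 0, 0, 1, 0, 0], [0, 0, 0, 0, 1, 1, 0], [0, 0, 0, 0, 0, 0, 1]],
  [[1, 0, 0, 0, 0, 0, 0], [0, 1, 0, 0, 0, 0, 0], [0, 0, 1, 0, 0, 0, 0], [0, 0, 1, 1, 0, 0, 0], [0, 0, 0, 0, 1, 0, 0], [0, 0, 0, 0, 2, 1, 0], [0, 0, 0, 0, 0, 0, 1]],
  [[1, 0, 0, 0, 0, 0, 0], [0, 1, 0, 0, 0, 0, 0], [0, 0, 1, 0, 0, 0, 0], [0, 0, 0, 1, 0, 0, 0], [0, 0, 0, 0, 1, 0, 0], [0, 0, 0, 0, 0, 1, 0], [0, 0, 0, 0, 0, 0, 1]],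
  [[1, 0, 0, 1, 0, 0, 0], [0, 1, 0, 0, 0, 0, 0], [0, 2, 1, 0, 0, 0, 0], [0, 0, 0, 1, 0, 0, 0], [1, 0, 0, 2, 1, 0, 0], [0, 0, 0, 0, 0, 1, 0], [0, 0, 0, 0, 0, 1, 1]],
  [[1, 0, 0, 2, 0, 0, 0], [0, 1, 0, 0, 0, 0, 0], [0, 1, 1, 0, 0, 0, 0], [0, 0, 0, 1, 0, 0, 0], [2, 0, 0, 2, 1, 0, 0], [0, 0, 0, 0, 0, 1, 0], [0, 0, 0, 0, 0, 2, 1]],
  [[1, 0, 0, 0, 0, 0, 0], [0, 1, 0, 0, 0, 0, 0], [0, 0, 1, 0, 0, 0, 0], [0, 0, 0, 1, 0, 0, 0], [0, 0, 0, 0, 1, 0, 0], [0, 0, 0, 0, 0, 1, 0], [0, 0, 0, 0, 0, 0, 1]],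
  [[1, 0, 1, 0, 0, 0, 0], [0, 1, 0, 0, 0, 0, 0], [0, 0, 1, 0, 0, 0, 0], [0, 1, 0, 1, 0, 0, 0], [0, 0, 0, 0, 1, 0, 0], [1, 0, 2, 0, 0, 1, 0], [0, 0, 0, 0, 2, 0, 1]],
  [[1, 0, 2, 0, 0, 0, 0], [0, 1, 0, 0, 0, 0, 0], [0, 0, 1, 0, 0, 0, 0], [0, 2, 0, 1, 0, 0, 0], [0, 0, 0, 0, 1, 0, 0], [2, 0, 2, 0, 0, 1, 0], [0, 0, 0, 0, 1, 0, 1]],
  [[1, 0, 0, 0, 0, 0, 0], [0, 1, 0, 0, 0, 0, 0], [0, 0, 1, 0, 0, 0, 0], [0, 0, 0, 1, 0, 0, 0], [0, 0, 0, 0, 1, 0, 0], [0, 0, 0, 0, 0, 1, 0], [0, 0, 0, 0, 0, 0, 1]],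
  [[1, 2, 0, 0, 0, 0, 0], [0, 1, 0, 0, 0, 0, 0], [0, 0, 1, 0, 0, 0, 0], [0, 0, 0, 1, 0, 0, 0], [0, 0, 1, 0, 1, 0, 0], [0, 0, 0, 2, 0, 1, 0], [2, 2, 0, 0, 0, 0, 1]],
  [[1, 1, 0, 0, 0, 0, 0], [0, 1, 0, 0, 0, 0, 0], [0, 0, 1, 0, 0, 0, 0], [0, 0, 0, 1, 0, 0, 0], [0, 0, 2, 0, 1, 0, 0], [0, 0, 0, 1, 0, 1, 0], [1, 2, 0, 0, 0, 0, 1]],
  [[1, 0, 0, 0, 0, 0, 0], [0, 1, 0, 0, 0, 0, 0], [0, 0, 1, 0, 0, 0, 0], [0, 0, 0, 1, 0, 0, 0], [0, 0, 0, 0, 1, 0, 0], [0, 0, 0, 0, 0, 1, 0], [0, 0, 0, 0, 0, 0, 1]],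
  [[1, 0, 0, 0, 0, 0, 0], [0, 1, 0, 0, 0, 0, 0], [0, 0, 1, 0, 0, 0, 0], [0, 0, 0, 1, 0, 0, 0], [0, 1, 0, 0, 1, 0, 0], [0, 0, 0, 0, 0, 1, 0], [0, 0, 0, 2, 0, 0, 1]],
  [[1, 0, 0, 0, 0, 0, 0], [0, 1, 0, 0, 0, 0, 0], [0, 0, 1, 0, 0, 0, 0], [0, 0, 0, 1, 0, 0, 0], [0, 2, 0, 0, 1, 0, 0], [0, 0, 0, 0, 0, 1, 0], [0, 0, 0, 1, 0, 0, 1]],
  [[1, 0, 0, 0, 0, 0, 0], [0, 1, 0, 0, 0, 0, 0], [0, 0, 1, 0, 0, 0, 0], [0, 0, 0, 1, 0, 0, 0], [0, 0, 0, 0, 1, 0, 0], [0, 0, 0, 0, 0, 1, 0], [0, 0, 0, 0, 0, 0, 1]],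
  [[1, 0, 0, 0, 0, 0, 0], [0, 1, 0, 0, 0, 0, 0], [0, 0, 1, 0, 0, 0, 0], [0, 0, 0, 1, 0, 0, 0], [0, 0, 0, 0, 1, 0, 0], [0, 1, 0, 0, 0, 1, 0], [0, 0, 2, 0, 0, 0, 1]],
  [[1, 0, 0, 0, 0, 0, 0], [0, 1, 0, 0, 0, 0, 0], [0, 0, 1, 0, 0, 0, 0], [0, 0, 0, 1, 0, 0, 0], [0, 0, 0, 0, 1, 0, 0], [0, 2, 0, 0, 0, 1, 0], [0, 0, 1, 0, 0, 0, 1]]]

def Rl (r : Fin chevG2.nroots) (t : F3) : M7 := mk7 (Rtab.getD (3 * r.1 + t.val) [])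

/-- `x_r(t)` has inverse `x_r(-t)` -/
theorem x_inv : ∀ (r : Fin chevG2.nroots) (t : F3), chevG2.xMat F3 r t * chevG2.xMat F3 r (-t) = 1 := by
  decide +kernel

theorem R_x : ∀ (r : Fin chevG2.nroots) (t : F3), R (chevG2.xMat F3 r t) = Rl r t := by
  decide +kernel

theorem x_stab : ∀ (r : Fin chevG2.nroots) (t : F3), chevG2.xMat F3 r t * B = B * Rl r t := by
  decide +kernel

theorem x_brk1 : ∀ (r : Fin chevG2.nroots), Rl r 1 * T = T * (Rl r 1 ⊗ₖ Rl r 1) := by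
  decide +kernel

theorem Rl_zero : ∀ (r : Fin chevG2.nroots), Rl r 0 = 1 := by decide +kernel

theorem Rl_two : ∀ (r : Fin chevG2.nroots), Rl r 2 = Rl r 1 * Rl r 1 := by decide +kernel

def Stab (M : M14) : Prop := M * B = B * R M
def BrkP (X : M7) : Prop := X * T = T * (X ⊗ₖ X)

theorem R_mul {M N : M14} (h : Stab N) : R (M * N) = R M * R N := by
  rw [← Bt_mul_B, ← Bt_mul_B M, Matrix.mul_assoc, Matrix.mul_assoc, Matrix.mul_assoc, h,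
    Matrix.mul_assoc]

theorem Stab.mul {M N : M14} (hM : Stab M) (hN : Stab N) : Stab (M * N) := by
  unfold Stab at *
  rw [R_mul hN, Matrix.mul_assoc, hN, ← Matrix.mul_assoc, hM, Matrix.mul_assoc]

theorem BrkP.mul {X Y : M7} (hX : BrkP X) (hY : BrkP Y) : BrkP (X * Y) := by
  unfold BrkP at *
  rw [Matrix.mul_assoc, hY, ← Matrix.mul_assoc, hX, Matrix.mul_assoc, Matrix.mul_kronecker_mul]

theorem R_one : R (1 : M14) = 1 := by decide +kernel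

theorem stab_one : Stab 1 := by
  unfold Stab
  rw [R_one, Matrix.one_mul, Matrix.mul_one]

theorem brk_one : BrkP 1 := by
  unfold BrkP
  rw [Matrix.one_mul, Matrix.one_kronecker_one, Matrix.mul_one]

theorem x_brk (r : Fin chevG2.nroots) (t : F3) : BrkP (Rl r t) := by
  have ht : t = 0 ∨ t = 1 ∨ t = 2 := by
    revert t
    decide
  rcases ht with rfl | rfl | rfl
  · rw [Rl_zero]; exact brk_one
  · exact x_brk1 r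
  · rw [Rl_two]; exact BrkP.mul (x_brk1 r) (x_brk1 r)

abbrev G3 : Subgroup (GL Idx F3) := chevG2.group F3

def QQ (g : GL Idx F3) : Prop := Stab g.1 ∧ BrkP (R g.1) ∧ Stab (g⁻¹).1 ∧ BrkP (R (g⁻¹).1)

theorem QQ_of_mem {g : GL Idx F3} (hg : g ∈ G3) : QQ g := by
  induction hg using Subgroup.closure_induction with
  | mem g hg =>
    obtain ⟨r, t, h⟩ := hg
    have hi : (g⁻¹).1 = chevG2.xMat F3 r (-t) :=
      Units.inv_eq_of_mul_eq_one_right (by rw [h]; exact x_inv r t)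
    refine ⟨?_, ?_, ?_, ?_⟩
    · unfold Stab; rw [h, R_x]; exact x_stab r t
    · rw [h, R_x]; exact x_brk r t
    · unfold Stab; rw [hi, R_x]; exact x_stab r _
    · rw [hi, R_x]; exact x_brk r _
  | one =>
    refine ⟨stab_one, ?_, ?_, ?_⟩
    · rw [Units.val_one, R_one]; exact brk_one
    · rw [inv_one]; exact stab_one
    · rw [inv_one, Units.val_one, R_one]; exact brk_one
  | mul g h _ _ ihg ihh =>
    obtain ⟨a1, a2, a3, a4⟩ := ihg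
    obtain ⟨b1, b2, b3, b4⟩ := ihh
    refine ⟨?_, ?_, ?_, ?_⟩
    · rw [Units.val_mul]; exact a1.mul b1
    · rw [Units.val_mul, R_mul b1]; exact a2.mul b2
    · rw [_root_.mul_inv_rev, Units.val_mul]; exact b3.mul a3
    · rw [_root_.mul_inv_rev, Units.val_mul, R_mul a3]; exact b4.mul a4
  | inv g _ ih =>
    obtain ⟨a1, a2, a3, a4⟩ := ih
    refine ⟨a3, a4, ?_, ?_⟩
    · rw [inv_inv]; exact a1
    · rw [inv_inv]; exact a2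

/-- The seven-dimensional representation. -/
def ρ : ↥G3 →* M7 where
  toFun g := R g.1.1
  map_one' := R_one
  map_mul' g h := by
    have := (QQ_of_mem h.2).1
    exact R_mul this

theorem ρ_brk (g : ↥G3) : BrkP (ρ g) := (QQ_of_mem g.2).2.1

def xu (r : Fin chevG2.nroots) (t : F3) : GL Idx F3 :=
  ⟨chevG2.xMat F3 r t, chevG2.xMat F3 r (-t), x_inv r t, by
    have := x_inv r (-t)
    rwa [neg_neg] at this⟩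

def xg (r : Fin chevG2.nroots) (t : F3) : ↥G3 :=
  ⟨xu r t, Subgroup.subset_closure ⟨r, t, rfl⟩⟩

theorem ρ_xg (r : Fin chevG2.nroots) (t : F3) : ρ (xg r t) = Rl r t := R_x r t

/-! Explicit elements. -/

def A13 : M7 := mk7 [[0, 1, 1, 2, 2, 2, 1], [2, 1, 0, 0, 0, 0, 2], [2, 1, 1, 0, 2, 0, 2], [2, 1, 0, 1, 0, 1, 2], [2, 0, 0, 2, 1, 2, 1], [2, 2, 2, 2, 1, 0, 0], [1, 0, 0, 1, 2, 0, 0]]
def A7 : M7 := mk7 [[1, 1, 0, 0, 1, 0, 0], [0, 1, 0, 0, 1, 0, 0], [0, 0, 2, 1, 0, 0, 2], [0, 0, 1, 1, 0, 0, 2], [0, 0, 1, 2, 2, 2, 1], [0, 0, 1, 1, 2, 1, 2], [1, 2, 0, 0, 2, 0, 1]]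
def A6 : M7 := mk7 [[1, 0, 0, 0, 0, 0, 0], [0, 0, 0, 0, 1, 0, 0], [0, 0, 1, 0, 0, 0, 0], [0, 0, 0, 0, 0, 0, 2], [0, 2, 0, 0, 1, 0, 0], [0, 0, 0, 0, 0, 1, 0], [0, 0, 0, 1, 0, 0, 1]]

def a13 : ↥G3 := xg ⟨8, by decide⟩ 1 * xg ⟨7, by decide⟩ 2 * xg ⟨2, by decide⟩ 2
def a7 : ↥G3 := xg ⟨5, by decide⟩ 2 * xg ⟨9, by decide⟩ 2 * xg ⟨6, by decide⟩ 2 * xg ⟨1, by decide⟩ 1
def a6 : ↥G3 := xg ⟨1, by decide⟩ 1 * xg ⟨10, by decide⟩ 2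

theorem ρ_a13 : ρ a13 = A13 := by
  simp only [a13, map_mul, ρ_xg]
  decide +kernel

theorem ρ_a7 : ρ a7 = A7 := by
  simp only [a7, map_mul, ρ_xg]
  decide +kernel

theorem ρ_a6 : ρ a6 = A6 := by
  simp only [a6, map_mul, ρ_xg]
  decide +kernel

theorem inj_ρ {g : ↥G3} (hg : ρ g = 1) : g = 1 := by
  have hs := (Cfsg.Agent.S1055.result (F := F3) ⟨2, by decide, by decide⟩).1
  have hker : ρ.ker = ⊥ ∨ ρ.ker = ⊤ := hs.eq_bot_or_eq_top_of_normal _ inferInstance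
  rcases hker with h | h
  · have : g ∈ ρ.ker := hg
    rw [h] at this
    exact this
  · exfalso
    have : a13 ∈ ρ.ker := by rw [h]; trivial
    have h2 : ρ a13 = 1 := this
    rw [ρ_a13] at h2
    revert h2
    decide +kernel

theorem A13_pow13 : A13 ^ 13 = 1 := by decide +kernel
theorem A7_pow7 : A7 ^ 7 = 1 := by decide +kernel
theorem A6_pow6 : A6 ^ 6 = 1 := by decide +kernel

theorem order_a13 : orderOf a13 = 13 := by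
  haveI : Fact (Nat.Prime 13) := ⟨by norm_num⟩
  apply orderOf_eq_prime
  · apply inj_ρ; rw [map_pow, ρ_a13]; exact A13_pow13
  · intro h
    have h2 : ρ a13 = 1 := by rw [h, map_one]
    rw [ρ_a13] at h2
    revert h2
    decide +kernel

theorem order_a7 : orderOf a7 = 7 := by
  haveI : Fact (Nat.Prime 7) := ⟨by norm_num⟩
  apply orderOf_eq_prime
  · apply inj_ρ; rw [map_pow, ρ_a7]; exact A7_pow7
  · intro h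
    have h2 : ρ a7 = 1 := by rw [h, map_one]
    rw [ρ_a7] at h2
    revert h2
    decide +kernel

theorem order_a6 : orderOf a6 = 6 := by
  apply orderOf_eq_of_pow_and_pow_div_prime (by norm_num)
  · apply inj_ρ; rw [map_pow, ρ_a6]; exact A6_pow6
  · intro p hp hd
    have hp6 : p ≤ 6 := Nat.le_of_dvd (by norm_num) hd
    intro h
    have h2 : ρ (a6 ^ (6 / p)) = 1 := by rw [h, map_one]
    rw [map_pow, ρ_a6] at h2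
    have h23 : p = 2 ∨ p = 3 := by
      interval_cases p <;> simp_all (config := { decide := true })
    rcases h23 with rfl | rfl
    · revert h2; decide +kernel
    · revert h2; decide +kernel

/-! Commutants of cyclic matrices. -/

theorem comm_poly (A C Ci : M7) (c : Fin 7 → F3) (h1 : Ci * C = 1) (h2 : C * Ci = 1)
    (hcol : ∀ i j : Fin 7, C i j = (A ^ (j : ℕ) *ᵥ c) i) (Y : M7) (hY : Y * A = A * Y) :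
    ∃ a : Fin 7 → F3, Y = ∑ i, a i • A ^ (i : ℕ) := by
  refine ⟨Ci *ᵥ (Y *ᵥ c), ?_⟩
  set a : Fin 7 → F3 := Ci *ᵥ (Y *ᵥ c) with ha
  set Z : M7 := ∑ i, a i • A ^ (i : ℕ) with hZ
  have hZA : Z * A = A * Z := by
    rw [hZ, Finset.sum_mul, Finset.mul_sum]
    refine Finset.sum_congr rfl fun i _ => ?_
    rw [Matrix.smul_mul, Matrix.mul_smul, ← pow_succ, pow_succ']
  have hZc : Z *ᵥ c = Y *ᵥ c := by
    have h3 : Z *ᵥ c = C *ᵥ a := by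
      ext i
      simp only [hZ, Matrix.mulVec, dotProduct, Matrix.sum_apply, Matrix.smul_apply, smul_eq_mul,
        Finset.sum_mul, hcol]
      rw [Finset.sum_comm]
      refine Finset.sum_congr rfl fun j _ => ?_
      refine Finset.sum_congr rfl fun k _ => ?_
      ring
    rw [h3, ha, Matrix.mulVec_mulVec, h2, Matrix.one_mulVec]
  have hpow : ∀ (W : M7), W * A = A * W → ∀ n : ℕ, W * A ^ n = A ^ n * W := by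
    intro W hW n
    exact (Commute.pow_right (show Commute W A from hW) n).eq
  have key : ∀ (W : M7) (i j : Fin 7), (W * C) i j = ((W * A ^ (j : ℕ)) *ᵥ c) i := by
    intro W i j
    rw [← Matrix.mulVec_mulVec]
    simp only [Matrix.mul_apply, Matrix.mulVec, dotProduct]
    refine Finset.sum_congr rfl fun k _ => ?_
    rw [hcol]
    simp only [Matrix.mulVec, dotProduct]
  have hYC : Y * C = Z * C := by
    ext i j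
    rw [key, key, hpow Y hY, hpow Z hZA, ← Matrix.mulVec_mulVec, ← Matrix.mulVec_mulVec, hZc]
  calc Y = Y * (C * Ci) := by rw [h2, Matrix.mul_one]
    _ = Y * C * Ci := by rw [Matrix.mul_assoc]
    _ = Z * C * Ci := by rw [hYC]
    _ = Z * (C * Ci) := by rw [Matrix.mul_assoc]
    _ = Z := by rw [h2, Matrix.mul_one]

theorem frob (A : M7) (q : F3[X]) : (aeval A q) ^ 3 = aeval (A ^ 3) q := by
  rw [← map_pow, ← ZMod.expand_card, Polynomial.expand_aeval]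

theorem sum_eq_aeval (A : M7) (a : Fin 7 → F3) :
    ∑ i, a i • A ^ (i : ℕ) = aeval A (∑ i, C (a i) * X ^ (i : ℕ) : F3[X]) := by
  simp [map_sum, Algebra.smul_def]

theorem frob_iter (A : M7) (q : F3[X]) (n : ℕ) : (aeval A q) ^ (3 ^ n) = aeval (A ^ (3 ^ n)) q := by
  induction n with
  | zero => simp
  | succ n ih =>
    rw [pow_succ, pow_mul, ih, frob, ← pow_mul]

def Cm13 : M7 := mk7 [[0, 1, 1, 1, 0, 2, 2], [0, 2, 1, 1, 0, 0, 0], [0, 2, 2, 2, 0, 0, 1], [0, 2, 0, 1, 1, 1, 0], [0, 1, 1, 2, 0, 2, 1], [0, 0, 0, 0, 0, 2, 2], [1, 0, 2, 0, 0, 1, 1]]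
def Ci13 : M7 := mk7 [[2, 2, 2, 0, 2, 0, 1], [2, 1, 0, 0, 0, 1, 0], [2, 2, 2, 0, 2, 2, 0], [0, 0, 1, 0, 1, 2, 0], [0, 1, 0, 1, 2, 2, 0], [2, 0, 2, 0, 0, 0, 0], [1, 0, 1, 0, 0, 2, 0]]
def c13 : Fin 7 → F3 := fun i => if i = 6 then 1 else 0
def tp13 : List (List (List F3)) := [[[1, 0, 0, 0, 0, 0, 0], [0, 1, 0, 0, 0, 0, 0], [0, 0, 1, 0, 0, 0, 0], [0, 0, 0, 1, 0, 0, 0], [0, 0, 0, 0, 1, 0, 0], [0, 0, 0, 0, 0, 1, 0], [0, 0, 0, 0, 0, 0, 1]], [[0, 1, 1, 2, 2, 2, 1], [2, 1, 0, 0, 0, 0, 2], [2, 1, 1, 0, 2, 0, 2], [2, 1, 0, 1, 0, 1, 2], [2, 0, 0, 2, 1, 2, 1], [2, 2, 2, 2, 1, 0, 0], [1, 0, 0, 1, 2, 0, 0]], [[2, 2, 2, 2, 2, 0, 1], [1, 0, 2, 0, 2, 1, 1], [1, 1, 0, 1, 0, 2, 2], [2, 0, 1, 0, 0, 2, 0], [2, 2, 0, 1, 0, 2, 1], [2, 2, 1, 2, 0, 2, 0], [0, 2, 1, 1, 1, 1, 2]], [[2, 2, 1, 2, 0, 1, 1], [2, 2, 2, 0, 2, 0, 1], [1, 1, 2,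 0, 2, 0, 2], [0, 1, 1, 2, 2, 1, 1], [2, 0, 0, 1, 2, 2, 2], [2, 2, 1, 1, 2, 0, 0], [2, 0, 0, 1, 2, 0, 0]], [[1, 0, 2, 0, 0, 0, 0], [1, 0, 1, 0, 0, 2, 0], [0, 1, 0, 2, 0, 0, 0], [0, 0, 0, 0, 1, 0, 1], [0, 1, 0, 0, 0, 0, 0], [0, 0, 0, 0, 2, 0, 0], [0, 0, 2, 0, 0, 0, 0]], [[1, 0, 0, 2, 0, 2, 2], [0, 0, 0, 0, 0, 2, 0], [0, 0, 0, 2, 0, 2, 0], [0, 0, 0, 0, 0, 2, 1], [2, 1, 0, 0, 0, 0, 2], [1, 0, 0, 1, 2, 1, 2], [1, 2, 2, 0, 1, 0, 1]], [[1, 1, 2, 1, 2, 1, 2], [1, 1, 1, 1, 2, 0, 0], [2, 0, 1, 0, 2, 2, 1], [2, 1, 1, 2, 1, 0, 0], [1, 0, 2, 0, 2, 1, 1], [1, 1, 0, 2, 0, 1, 2], [2, 2, 0, 2, 0, 1, 1]]]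
def pw13 (i : Fin 7) : M7 := mk7 (tp13.getD i.1 [])
theorem pw13_eq : ∀ i : Fin 7, A13 ^ (i : ℕ) = pw13 i := by decide +kernel

def Cm7 : M7 := mk7 [[0, 0, 2, 1, 2, 1, 0], [0, 0, 2, 2, 1, 2, 2], [0, 0, 0, 2, 2, 0, 0], [0, 0, 0, 2, 0, 1, 0], [0, 2, 0, 2, 1, 0, 1], [1, 1, 2, 1, 2, 2, 2], [0, 0, 1, 1, 1, 1, 0]]
def Ci7 : M7 := mk7 [[0, 0, 1, 0, 1, 1, 1], [2, 2, 0, 2, 2, 0, 1], [2, 0, 1, 1, 0, 0, 0], [1, 0, 0, 1, 0, 0, 1], [2, 0, 2, 2, 0, 0, 2], [1, 0, 0, 2, 0, 0, 1], [1, 2, 1, 1, 0, 0, 0]]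
def c7 : Fin 7 → F3 := fun i => if i = 5 then 1 else 0
def tp7 : List (List (List F3)) := [[[1, 0, 0, 0, 0, 0, 0], [0, 1, 0, 0, 0, 0, 0], [0, 0, 1, 0, 0, 0, 0], [0, 0, 0, 1, 0, 0, 0], [0, 0, 0, 0, 1, 0, 0], [0, 0, 0, 0, 0, 1, 0], [0, 0, 0, 0, 0, 0, 1]], [[1, 1, 0, 0, 1, 0, 0], [0, 1, 0, 0, 1, 0, 0], [0, 0, 2, 1, 0, 0, 2], [0, 0, 1, 1, 0, 0, 2], [0, 0, 1, 2, 2, 2, 1], [0, 0, 1, 1, 2, 1, 2], [1, 2, 0, 0, 2, 0, 1]], [[1, 2, 1, 2, 1, 2, 1], [0, 1, 1, 2, 0, 2, 1], [2, 1, 2, 0, 1, 0, 2], [2, 1, 0, 2, 1, 0, 0], [1, 2, 2, 0, 1, 0, 1], [2, 1, 0, 1, 1, 2, 1], [2, 2, 2, 1, 0, 1, 0]], [[2, 2, 1, 1, 2, 1, 0], [1, 0, 0, 2, 1, 2, 2], [1, 1, 2, 1, 0, 2, 1], [2, 0, 0, 1, 2, 2, 2], [2, 2, 2, 1, 1, 2, 0], [0, 2, 1, 2, 2, 1, 2], [2, 1, 0, 1, 0, 1, 2]], [[2, 1, 0, 1, 1, 2, 2], [0, 2, 2, 0, 2, 1, 2], [2, 1, 1, 2, 2, 2, 2], [1, 0,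 2, 1, 2, 0, 1], [2, 1, 2, 1, 1, 1, 2], [2, 0, 1, 2, 0, 2, 0], [1, 1, 2, 2, 0, 1, 0]], [[1, 1, 1, 2, 1, 1, 0], [2, 0, 1, 1, 0, 2, 1], [1, 1, 2, 0, 0, 0, 2], [2, 0, 1, 1, 1, 1, 0], [1, 1, 1, 0, 2, 0, 2], [2, 2, 0, 2, 0, 2, 1], [1, 2, 1, 2, 1, 1, 1]], [[1, 2, 0, 0, 0, 0, 0], [0, 1, 2, 1, 2, 2, 0], [0, 0, 1, 2, 0, 0, 0], [2, 2, 2, 2, 0, 0, 1], [0, 0, 1, 2, 1, 1, 0], [0, 0, 1, 1, 1, 2, 0], [2, 2, 0, 0, 0, 0, 1]]]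
def pw7 (i : Fin 7) : M7 := mk7 (tp7.getD i.1 [])
theorem pw7_eq : ∀ i : Fin 7, A7 ^ (i : ℕ) = pw7 i := by decide +kernel

theorem col13 : ∀ i j : Fin 7, Cm13 i j = (A13 ^ (j : ℕ) *ᵥ c13) i := by
  have h : Cm13 = Matrix.of (fun i j : Fin 7 => (A13 ^ (j : ℕ) *ᵥ c13) i) := by decide +kernel
  intro i j
  rw [h]
  rfl

theorem comm13 (Y : M7) (hY : Y * A13 = A13 * Y) : ∃ a : Fin 7 → F3, Y = ∑ i, a i • A13 ^ (i : ℕ) :=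
  comm_poly A13 Cm13 Ci13 c13 (by decide +kernel) (by decide +kernel) col13 Y hY

theorem col7 : ∀ i j : Fin 7, Cm7 i j = (A7 ^ (j : ℕ) *ᵥ c7) i := by
  have h : Cm7 = Matrix.of (fun i j : Fin 7 => (A7 ^ (j : ℕ) *ᵥ c7) i) := by decide +kernel
  intro i j
  rw [h]
  rfl

theorem comm7 (Y : M7) (hY : Y * A7 = A7 * Y) : ∃ a : Fin 7 → F3, Y = ∑ i, a i • A7 ^ (i : ℕ) :=
  comm_poly A7 Cm7 Ci7 c7 (by decide +kernel) (by decide +kernel) col7 Y hY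

theorem A13_pow27 : A13 ^ (3 ^ 3) = A13 := by
  have : (3 : ℕ) ^ 3 = 13 * 2 + 1 := by norm_num
  rw [this, pow_succ, pow_mul, A13_pow13, one_pow, one_mul]

theorem A7_pow729 : A7 ^ (3 ^ 6) = A7 := by
  have : (3 : ℕ) ^ 6 = 7 * 104 + 1 := by norm_num
  rw [this, pow_succ, pow_mul, A7_pow7, one_pow, one_mul]

theorem key13_pow (Y : M7) (hY : Y * A13 = A13 * Y) : Y ^ 27 = Y := by
  obtain ⟨a, rfl⟩ := comm13 Y hY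
  rw [sum_eq_aeval]
  have := frob_iter A13 (∑ i, C (a i) * X ^ (i : ℕ) : F3[X]) 3
  rw [A13_pow27] at this
  exact this

theorem key7_pow (Y : M7) (hY : Y * A7 = A7 * Y) : Y ^ 729 = Y := by
  obtain ⟨a, rfl⟩ := comm7 Y hY
  rw [sum_eq_aeval]
  have := frob_iter A7 (∑ i, C (a i) * X ^ (i : ℕ) : F3[X]) 6
  rw [A7_pow729] at this
  exact this

theorem key13_3 (Y : M7) (hY : Y * A13 = A13 * Y) (h : Y ^ 3 = 1) : Y = 1 := by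
  rw [← key13_pow Y hY]
  have : (27 : ℕ) = 3 * 9 := by norm_num
  rw [this, pow_mul, h, one_pow]

theorem key13_7 (Y : M7) (hY : Y * A13 = A13 * Y) (h : Y ^ 7 = 1) : Y = 1 := by
  have h1 : Y ^ 28 = 1 := by
    have : (28 : ℕ) = 7 * 4 := by norm_num
    rw [this, pow_mul, h, one_pow]
  have h2 : Y ^ 2 = 1 := by
    have : (28 : ℕ) = 27 + 1 := by norm_num
    rw [this, pow_succ, key13_pow Y hY] at h1
    rw [pow_two]; exact h1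
  have h' : Y ^ (2 * 3 + 1) = 1 := h
  rw [pow_succ, pow_mul, h2, one_pow, one_mul] at h'
  exact h'

theorem key7_3 (Y : M7) (hY : Y * A7 = A7 * Y) (h : Y ^ 3 = 1) : Y = 1 := by
  rw [← key7_pow Y hY]
  have : (729 : ℕ) = 3 * 243 := by norm_num
  rw [this, pow_mul, h, one_pow]

def Chk (Y : M7) : Prop := Y * Y = 1 → Y * T = T * (Y ⊗ₖ Y) → Y = 1

instance (Y : M7) : Decidable (Chk Y) :=
  inferInstanceAs (Decidable (Y * Y = 1 → Y * T = T * (Y ⊗ₖ Y) → Y = 1))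

theorem brute13 : ∀ a0 a1 a2 a3 a4 a5 a6 : F3,
    Chk (a0 • pw13 0 + a1 • pw13 1 + a2 • pw13 2 + a3 • pw13 3 + a4 • pw13 4 + a5 • pw13 5 + a6 • pw13 6) := by
  decide +kernel

theorem brute7 : ∀ a0 a1 a2 a3 a4 a5 a6 : F3,
    Chk (a0 • pw7 0 + a1 • pw7 1 + a2 • pw7 2 + a3 • pw7 3 + a4 • pw7 4 + a5 • pw7 5 + a6 • pw7 6) := by
  decide +kernel

theorem key13_2 (Y : M7) (hY : Y * A13 = A13 * Y) (h : Y ^ 2 = 1) (hb : BrkP Y) : Y = 1 := by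
  obtain ⟨a, ha⟩ := comm13 Y hY
  have h3 : Y = a 0 • pw13 0 + a 1 • pw13 1 + a 2 • pw13 2 + a 3 • pw13 3 + a 4 • pw13 4 + a 5 • pw13 5 + a 6 • pw13 6 := by
    rw [ha, Fin.sum_univ_seven]
    simp only [pw13_eq]
  have := brute13 (a 0) (a 1) (a 2) (a 3) (a 4) (a 5) (a 6)
  rw [← h3] at this
  exact this (by rw [← pow_two]; exact h) hb

theorem key7_2 (Y : M7) (hY : Y * A7 = A7 * Y) (h : Y ^ 2 = 1) (hb : BrkP Y) : Y = 1 := by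
  obtain ⟨a, ha⟩ := comm7 Y hY
  have h3 : Y = a 0 • pw7 0 + a 1 • pw7 1 + a 2 • pw7 2 + a 3 • pw7 3 + a 4 • pw7 4 + a 5 • pw7 5 + a 6 • pw7 6 := by
    rw [ha, Fin.sum_univ_seven]
    simp only [pw7_eq]
  have := brute7 (a 0) (a 1) (a 2) (a 3) (a 4) (a 5) (a 6)
  rw [← h3] at this
  exact this (by rw [← pow_two]; exact h) hb

/-! Group level. -/

theorem comm_ρ13 {y : ↥G3} (hy : Commute y a13) : ρ y * A13 = A13 * ρ y := by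
  rw [← ρ_a13, ← map_mul, ← map_mul, hy.eq]

theorem comm_ρ7 {y : ↥G3} (hy : Commute y a7) : ρ y * A7 = A7 * ρ y := by
  rw [← ρ_a7, ← map_mul, ← map_mul, hy.eq]

theorem grp13_2 (y : ↥G3) (hy : Commute y a13) (h : y ^ 2 = 1) : y = 1 :=
  inj_ρ (key13_2 _ (comm_ρ13 hy) (by rw [← map_pow, h, map_one]) (ρ_brk y))

theorem grp13_3 (y : ↥G3) (hy : Commute y a13) (h : y ^ 3 = 1) : y = 1 :=
  inj_ρ (key13_3 _ (comm_ρ13 hy) (by rw [← map_pow, h, map_one]))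

theorem grp13_7 (y : ↥G3) (hy : Commute y a13) (h : y ^ 7 = 1) : y = 1 :=
  inj_ρ (key13_7 _ (comm_ρ13 hy) (by rw [← map_pow, h, map_one]))

theorem grp7_2 (y : ↥G3) (hy : Commute y a7) (h : y ^ 2 = 1) : y = 1 :=
  inj_ρ (key7_2 _ (comm_ρ7 hy) (by rw [← map_pow, h, map_one]) (ρ_brk y))

theorem grp7_3 (y : ↥G3) (hy : Commute y a7) (h : y ^ 3 = 1) : y = 1 :=
  inj_ρ (key7_3 _ (comm_ρ7 hy) (by rw [← map_pow, h, map_one]))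

/-- A general fact: if `s` divides the order exactly once, `x` has order `s` and no nontrivial `r`-torsion
element commutes with `x`, then there is no element of order `r * s`. -/
theorem no_prod {G : Type*} [Group G] [Finite G] {s r : ℕ} (hs : s.Prime) (hc : ¬ s ^ 2 ∣ Nat.card G)
    {x : G} (hx : orderOf x = s) (hr : r ≠ 1) (hrs : r ≠ 0)
    (hkey : ∀ y : G, Commute y x → y ^ r = 1 → y = 1) (z : G) (hz : orderOf z = r * s) : False := by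
  classical
  haveI : Fact s.Prime := ⟨hs⟩
  have hrpos : 0 < r := Nat.pos_of_ne_zero hrs
  have hs0 : 0 < s := hs.pos
  set w := z ^ r with hw
  set y := z ^ s with hy
  have hwo : orderOf w = s := by
    rw [hw, orderOf_pow' z hrs, hz, Nat.gcd_mul_right_left, Nat.mul_div_cancel_left _ hrpos]
  have hyo : orderOf y = r := by
    rw [hy, orderOf_pow' z hs0.ne', hz, Nat.gcd_mul_left_left, Nat.mul_div_cancel _ hs0]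
  have hdvd : s ∣ Nat.card G := by
    rw [← hx]
    exact orderOf_dvd_natCard x
  have hfac : (Nat.card G).factorization s = 1 := by
    have h0 : Nat.card G ≠ 0 := Nat.card_pos.ne'
    have h1 : 1 ≤ (Nat.card G).factorization s := (hs.dvd_iff_one_le_factorization h0).1 hdvd
    have h2 : ¬ 2 ≤ (Nat.card G).factorization s := by
      intro h
      apply hc
      exact (hs.pow_dvd_iff_le_factorization h0).2 h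
    omega
  have hX : Nat.card (Subgroup.zpowers x) = s ^ (Nat.card G).factorization s := by
    rw [Nat.card_zpowers, hx, hfac, pow_one]
  have hY : Nat.card (Subgroup.zpowers w) = s ^ (Nat.card G).factorization s := by
    rw [Nat.card_zpowers, hwo, hfac, pow_one]
  let P : Sylow s G := Sylow.ofCard _ hX
  let Q : Sylow s G := Sylow.ofCard _ hY
  obtain ⟨c, hc'⟩ := MulAction.exists_smul_eq G P Q
  have hmem : c * x * c⁻¹ ∈ Subgroup.zpowers w := by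
    have h1 : c * x * c⁻¹ ∈ (c • P : Sylow s G) := by
      rw [Sylow.smul_def]
      change _ ∈ Subgroup.map _ _
      refine Subgroup.mem_map.2 ⟨x, Subgroup.mem_zpowers x, rfl⟩
    rw [hc'] at h1
    exact h1
  obtain ⟨i, hi⟩ := Subgroup.mem_zpowers_iff.1 hmem
  have hyw : Commute y w := (Commute.refl z).pow_pow s r
  have hyx' : Commute y (c * x * c⁻¹) := by
    rw [← hi]
    exact hyw.zpow_right i
  have hcomm : Commute (c⁻¹ * y * c) x := by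
    have h3 := hyx'.eq
    change c⁻¹ * y * c * x = x * (c⁻¹ * y * c)
    calc c⁻¹ * y * c * x = c⁻¹ * (y * (c * x * c⁻¹)) * c := by group
      _ = c⁻¹ * ((c * x * c⁻¹) * y) * c := by rw [h3]
      _ = x * (c⁻¹ * y * c) := by group
  have hyr : y ^ r = 1 := by
    rw [← hyo]
    exact pow_orderOf_eq_one y
  have hpow : (c⁻¹ * y * c) ^ r = 1 := by
    have h4 : c⁻¹ * y * c = c⁻¹ * y * (c⁻¹)⁻¹ := by rw [inv_inv]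
    rw [h4, conj_pow, hyr]
    group
  have h5 := hkey _ hcomm hpow
  have h6 : y = 1 := by
    have : y = c * (c⁻¹ * y * c) * c⁻¹ := by group
    rw [this, h5]
    group
  apply hr
  rw [← hyo, h6, orderOf_one]

instance : Finite ↥G3 := by
  haveI : Fintype (GL Idx F3) := inferInstance
  infer_instance

theorem card_G3 : Nat.card ↥G3 = 4245696 := by
  have h := Cfsg.Agent.S1059.result (F := F3) (q := 3) (ZMod.card 3)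
  rw [h]
  norm_num

theorem no13_2 (z : ↥G3) (hz : orderOf z = 2 * 13) : False :=
  no_prod (by norm_num) (by rw [card_G3]; norm_num) order_a13 (by norm_num) (by norm_num) grp13_2 z hz
theorem no13_3 (z : ↥G3) (hz : orderOf z = 3 * 13) : False :=
  no_prod (by norm_num) (by rw [card_G3]; norm_num) order_a13 (by norm_num) (by norm_num) grp13_3 z hz
theorem no13_7 (z : ↥G3) (hz : orderOf z = 7 * 13) : False :=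
  no_prod (by norm_num) (by rw [card_G3]; norm_num) order_a13 (by norm_num) (by norm_num) grp13_7 z hz
theorem no7_2 (z : ↥G3) (hz : orderOf z = 2 * 7) : False :=
  no_prod (by norm_num) (by rw [card_G3]; norm_num) order_a7 (by norm_num) (by norm_num) grp7_2 z hz
theorem no7_3 (z : ↥G3) (hz : orderOf z = 3 * 7) : False :=
  no_prod (by norm_num) (by rw [card_G3]; norm_num) order_a7 (by norm_num) (by norm_num) grp7_3 z hz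

theorem primes_G3 (r : ℕ) (hr : r.Prime) (h : r ∣ Nat.card ↥G3) : r = 2 ∨ r = 3 ∨ r = 7 ∨ r = 13 := by
  rw [card_G3] at h
  have h1 : (4245696 : ℕ) = 2 ^ 6 * 3 ^ 6 * 7 * 13 := by norm_num
  rw [h1] at h
  rcases (Nat.Prime.dvd_mul hr).1 h with h | h
  · rcases (Nat.Prime.dvd_mul hr).1 h with h | h
    · rcases (Nat.Prime.dvd_mul hr).1 h with h | h
      · left; exact (Nat.prime_dvd_prime_iff_eq hr Nat.prime_two).1 (hr.dvd_of_dvd_pow h)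
      · right; left; exact (Nat.prime_dvd_prime_iff_eq hr Nat.prime_three).1 (hr.dvd_of_dvd_pow h)
    · right; right; left; exact (Nat.prime_dvd_prime_iff_eq hr (by norm_num)).1 h
  · right; right; right; exact (Nat.prime_dvd_prime_iff_eq hr (by norm_num)).1 h

/-- The only product of two distinct primes which is an element order of `G₂(3)` is `6`. -/
theorem orders_G3 (r s : ℕ) (hr : r.Prime) (hs : s.Prime) (hrs : r ≠ s) :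
    (∃ x : ↥G3, orderOf x = r * s) ↔ r * s = 6 := by
  constructor
  · rintro ⟨z, hz⟩
    have h1 : r ∣ Nat.card ↥G3 := (Dvd.intro _ hz.symm).trans (orderOf_dvd_natCard z)
    have h2 : s ∣ Nat.card ↥G3 := (Dvd.intro_left _ hz.symm).trans (orderOf_dvd_natCard z)
    rcases primes_G3 r hr h1 with rfl | rfl | rfl | rfl <;>
      rcases primes_G3 s hs h2 with rfl | rfl | rfl | rfl <;>
      first
        | exact absurd rfl hrs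
        | rfl
        | (exfalso; first
            | exact no13_2 z hz
            | exact no13_3 z hz
            | exact no13_7 z hz
            | exact no7_2 z hz
            | exact no7_3 z hz
            | exact no13_2 z (by rw [hz]; norm_num)
            | exact no13_3 z (by rw [hz]; norm_num)
            | exact no13_7 z (by rw [hz]; norm_num)
            | exact no7_2 z (by rw [hz]; norm_num)
            | exact no7_3 z (by rw [hz]; norm_num))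
  · intro h
    exact ⟨a6, by rw [order_a6, h]⟩

end Cfsg.Agent.Lib.H14.G23Rep
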